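import Mathlib

/-! The Hilbert–Burch identity between a syzygy matrix and the generators. -/

set_option autoImplicit false
universe u

open Matrix

namespace HBLib

variable {A : Type u} [CommRing A] {r : ℕ}

/-- The signed maximal minors. -/
def minor (φ : Matrix (Fin (r + 1)) (Fin r) A) (i : Fin (r + 1)) : A :=
  (-1 : A) ^ (i : ℕ) * (φ.submatrix i.succAbove id).det

/-- A column prepended to the matrix. -/
def aug (φ : Matrix (Fin (r + 1)) (Fin r) A) (c : Fin (r + 1) → A) : Matrix (Fin (r + 1)) (Fin (r + 1)) A :=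
  Matrix.of fun i => Fin.cons (c i) (φ i)

theorem det_aug (φ : Matrix (Fin (r + 1)) (Fin r) A) (c : Fin (r + 1) → A) :
    (aug φ c).det = ∑ i, c i * minor φ i := by
  rw [Matrix.det_succ_column_zero]
  refine Finset.sum_congr rfl fun i _ => ?_
  rw [show (aug φ c).submatrix i.succAbove Fin.succ = φ.submatrix i.succAbove id from
    Matrix.ext fun a b => by simp [aug], minor, show aug φ c i 0 = c i by simp [aug]]
  ring

theorem vecMul_minor (φ : Matrix (Fin (r + 1)) (Fin r) A) : minor φ ᵥ* φ = 0 := by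
  funext j
  have h := det_aug φ fun i => φ i j
  rw [Matrix.det_zero_of_column_eq (i := 0) (j := j.succ) (Fin.succ_ne_zero j).symm (fun k => by simp [aug])] at h
  show ∑ i, minor φ i * φ i j = 0
  exact (Finset.sum_congr rfl fun i _ => mul_comm _ _).trans h.symm

theorem det_aug_single (φ : Matrix (Fin (r + 1)) (Fin r) A) (i : Fin (r + 1)) :
    (aug φ (Pi.single i 1)).det = minor φ i := by
  rw [det_aug, Finset.sum_eq_single i (fun j _ hj => by rw [Pi.single_eq_of_ne hj, zero_mul])
    (fun h => absurd (Finset.mem_univ i) h), Pi.single_eq_same, one_mul]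

theorem exists_minor_ne_zero_field {K : Type u} [Field K] (φ : Matrix (Fin (r + 1)) (Fin r) K)
    (hφ : LinearIndependent K φ.col) : ∃ i, minor φ i ≠ 0 := by
  obtain ⟨i, hi⟩ : ∃ i, (Pi.single i 1 : Fin (r + 1) → K) ∉ Submodule.span K (Set.range φ.col) := by
    by_contra h
    push Not at h
    have htop : Submodule.span K (Set.range φ.col) = ⊤ := by
      rw [eq_top_iff, ← (Pi.basisFun K (Fin (r + 1))).span_eq]
      refine Submodule.span_le.2 ?_
      rintro _ ⟨i, rfl⟩
      rw [Pi.basisFun_apply]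
      exact h i
    have h2 := finrank_span_eq_card hφ
    rw [htop, finrank_top, Module.finrank_fin_fun, Fintype.card_fin] at h2
    omega
  refine ⟨i, ?_⟩
  rw [← det_aug_single]
  refine (Matrix.isUnit_iff_isUnit_det _).1 (Matrix.linearIndependent_cols_iff_isUnit.1 ?_) |>.ne_zero
  have hcol : (aug φ (Pi.single i 1)).col = Fin.cons (Pi.single i 1) φ.col := by
    funext a b
    refine Fin.cases ?_ (fun a' => ?_) a <;> simp [aug, Matrix.col]
  rw [hcol]
  exact linearIndependent_finCons.2 ⟨hφ, hi⟩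

theorem exists_minor_ne_zero [IsDomain A] (φ : Matrix (Fin (r + 1)) (Fin r) A)
    (hφ : Function.Injective φ.mulVecLin) : ∃ i, minor φ i ≠ 0 := by
  have hli : LinearIndependent A φ.col := Matrix.mulVec_injective_iff.1 hφ
  let K := FractionRing A
  have hli' : LinearIndependent K (φ.map (algebraMap A K)).col := by
    rw [← LinearIndependent.iff_fractionRing (R := A) K]
    exact hli.map' ((Algebra.linearMap A K).compLeft (Fin (r + 1)))
      (LinearMap.ker_eq_bot.2 fun x y h => funext fun i => IsFractionRing.injective A K (congrFun h i))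
  obtain ⟨i, hi⟩ := exists_minor_ne_zero_field _ hli'
  refine ⟨i, fun h => hi ?_⟩
  rw [minor] at h ⊢
  rw [Matrix.submatrix_map, ← RingHom.mapMatrix_apply, ← RingHom.map_det, ← map_one (algebraMap A K), ← map_neg,
    ← map_pow, ← map_mul, h, map_zero]

theorem proportional [IsDomain A] (φ : Matrix (Fin (r + 1)) (Fin r) A) (hφ : Function.Injective φ.mulVecLin)
    (x y : Fin (r + 1) → A) (hx : x ᵥ* φ = 0) (hy : y ᵥ* φ = 0) (a b : Fin (r + 1)) :
    x a * y b = x b * y a := by
  obtain ⟨i, hi⟩ := exists_minor_ne_zero φ hφ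
  let M := aug φ (Pi.single i 1)
  have hMd : M.det = minor φ i := det_aug_single φ i
  have key : ∀ z : Fin (r + 1) → A, z ᵥ* φ = 0 → ∀ c, minor φ i * z c = z i * M.adjugate 0 c := by
    intro z hz c
    have h1 : z ᵥ* M = Pi.single 0 (z i) := by
      funext j
      refine Fin.cases ?_ (fun j' => ?_) j
      · rw [Pi.single_eq_same, Matrix.vecMul, dotProduct, Finset.sum_eq_single i]
        · simp [M, aug]
        · intro k _ hk; simp [M, aug, hk]
        · simp
      · rw [Pi.single_eq_of_ne (Fin.succ_ne_zero j')]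
        refine Eq.trans ?_ (congrFun hz j')
        simp [M, aug, Matrix.vecMul, dotProduct]
    have h2 := congrArg (fun v => (v ᵥ* M.adjugate) c) h1
    simp only [Matrix.vecMul_vecMul, Matrix.mul_adjugate, Matrix.single_vecMul, hMd] at h2
    rw [Matrix.vecMul_smul, Matrix.vecMul_one] at h2
    exact h2
  refine mul_left_cancel₀ (mul_ne_zero hi hi) ?_
  calc minor φ i * minor φ i * (x a * y b) = (minor φ i * x a) * (minor φ i * y b) := by ring
    _ = (minor φ i * x b) * (minor φ i * y a) := by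
        rw [key x hx a, key y hy b, key x hx b, key y hy a]; ring
    _ = _ := by ring

/-- Hilbert–Burch. -/
theorem minor_eq_unit_mul [IsDomain A] [UniqueFactorizationMonoid A] (φ : Matrix (Fin (r + 1)) (Fin r) A)
    (f : Fin (r + 1) → A) (hφ : Function.Injective φ.mulVecLin)
    (hex : LinearMap.range φ.mulVecLin = LinearMap.ker (Fintype.linearCombination A f))
    (hf0 : ∃ k, f k ≠ 0) (hcop : ∀ q, (∀ i, q ∣ f i) → IsUnit q) (hnf : ¬ IsField A) :
    ∃ l : Aˣ, ∀ i, minor φ i = (l : A) * f i := by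
  classical
  obtain ⟨k, hk⟩ := hf0
  have hfφ : f ᵥ* φ = 0 := by
    funext j
    have hmem : φ.mulVecLin (Pi.single j 1) ∈ LinearMap.ker (Fintype.linearCombination A f) := hex ▸ ⟨_, rfl⟩
    rw [LinearMap.mem_ker, Fintype.linearCombination_apply] at hmem
    rw [Pi.zero_apply, ← hmem]
    simp [Matrix.vecMul, dotProduct, mul_comm]
  obtain ⟨q, p, c, hrel, hq, hp⟩ := UniqueFactorizationMonoid.exists_reduced_factors (f k) hk (minor φ k)
  have hc : c ≠ 0 := fun h => hk (by rw [← hq, h, zero_mul])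
  have hmul : ∀ i, q * minor φ i = p * f i := fun i => by
    refine mul_left_cancel₀ hc ?_
    rw [← mul_assoc, ← mul_assoc, hq, hp]
    exact proportional φ hφ f (minor φ) hfφ (vecMul_minor φ) k i |>.trans (mul_comm _ _)
  have hqu : IsUnit q := hcop q fun i => hrel.dvd_of_dvd_mul_left ⟨minor φ i, (hmul i).symm⟩
  obtain ⟨qu, rfl⟩ := hqu
  have hl : ∀ i, minor φ i = (↑qu⁻¹ * p) * f i := fun i => by
    rw [mul_assoc, ← hmul i, Units.inv_mul_cancel_left]
  suffices hlu : IsUnit (↑qu⁻¹ * p) from ⟨hlu.unit, hl⟩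
  by_contra hnu
  obtain ⟨π, hπ, hπl⟩ : ∃ π, Prime π ∧ π ∣ ↑qu⁻¹ * p := by
    rcases eq_or_ne (↑qu⁻¹ * p) 0 with h0 | h0
    · obtain ⟨a, ha0, hau⟩ : ∃ a : A, a ≠ 0 ∧ ¬ IsUnit a := by
        by_contra h
        push Not at h
        exact hnf ⟨exists_pair_ne A, mul_comm, fun {a} ha => (h a ha).exists_right_inv⟩
      obtain ⟨π, hπ, -⟩ := WfDvdMonoid.exists_irreducible_factor hau ha0
      exact ⟨π, hπ.prime, h0 ▸ dvd_zero _⟩
    · obtain ⟨π, hπ, hd⟩ := WfDvdMonoid.exists_irreducible_factor hnu h0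
      exact ⟨π, hπ.prime, hd⟩
  let P : Ideal A := Ideal.span {π}
  haveI : P.IsPrime := (Ideal.span_singleton_prime hπ.ne_zero).2 hπ
  have hinj : Function.Injective (φ.map (Ideal.Quotient.mk P)).mulVecLin := by
    rw [injective_iff_map_eq_zero]
    intro v hv
    choose v' hv' using fun j => Ideal.Quotient.mk_surjective (v j)
    have hdiv : ∀ i, π ∣ (φ *ᵥ v') i := fun i => by
      rw [← Ideal.mem_span_singleton, ← Ideal.Quotient.eq_zero_iff_mem]
      refine Eq.trans ?_ (congrFun hv i)
      rw [RingHom.map_mulVec, show (Ideal.Quotient.mk P ∘ v') = v from funext hv', Matrix.mulVecLin_apply]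
    choose w hw using hdiv
    have hwk : w ∈ LinearMap.ker (Fintype.linearCombination A f) := by
      have h1 : φ.mulVecLin v' ∈ LinearMap.ker (Fintype.linearCombination A f) := hex ▸ ⟨_, rfl⟩
      rw [show φ.mulVecLin v' = π • w from funext fun i => hw i, LinearMap.mem_ker, map_smul,
        smul_eq_zero] at h1
      exact h1.resolve_left hπ.ne_zero
    rw [← hex] at hwk
    obtain ⟨u, hu⟩ := hwk
    have hv'u : v' = π • u := hφ (by rw [map_smul, hu]; exact funext fun i => hw i)
    funext j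
    rw [← hv' j, hv'u, Pi.smul_apply, smul_eq_mul, Pi.zero_apply, Ideal.Quotient.eq_zero_iff_mem]
    exact Ideal.mul_mem_right _ _ (Ideal.mem_span_singleton_self π)
  obtain ⟨i, hi⟩ := exists_minor_ne_zero _ hinj
  refine hi ?_
  have h3 : Ideal.Quotient.mk P (minor φ i) = 0 :=
    Ideal.Quotient.eq_zero_iff_mem.2 (Ideal.mem_span_singleton.2 (hl i ▸ Dvd.dvd.mul_right hπl _))
  rw [← h3, minor, minor, Matrix.submatrix_map, map_mul, RingHom.map_det, RingHom.mapMatrix_apply, map_pow,
    map_neg, map_one]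

/-- Scaling the first column. -/
theorem exists_rescale (φ : Matrix (Fin (r + 1)) (Fin r) A) (l : Aˣ) (hr : 0 < r) :
    ∃ ψ : Matrix (Fin (r + 1)) (Fin r) A, (∀ i, minor φ i = (l : A) * minor ψ i) ∧
      LinearMap.range ψ.mulVecLin = LinearMap.range φ.mulVecLin ∧
      (Function.Injective φ.mulVecLin → Function.Injective ψ.mulVecLin) := by
  classical
  let d : Fin r → A := Function.update 1 ⟨0, hr⟩ ↑l⁻¹
  let D : Matrix (Fin r) (Fin r) A := Matrix.diagonal d
  let d' : Fin r → A := Function.update 1 ⟨0, hr⟩ ↑l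
  let D' : Matrix (Fin r) (Fin r) A := Matrix.diagonal d'
  have hdd : D * D' = 1 := by
    rw [Matrix.diagonal_mul_diagonal, ← Matrix.diagonal_one]
    congr 1
    funext j
    rcases eq_or_ne j ⟨0, hr⟩ with rfl | hj
    · simp [d, d']
    · simp [d, d', hj]
  have hd'd : D' * D = 1 := mul_eq_one_comm.1 hdd
  refine ⟨φ * D, fun i => ?_, ?_, fun hinj => ?_⟩
  · have h1 : (φ * D).submatrix i.succAbove id = φ.submatrix i.succAbove id * D := by
      ext a b; simp [Matrix.mul_apply]
    have h2 : D.det = ↑l⁻¹ := by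
      rw [Matrix.det_diagonal, Finset.prod_eq_single ⟨0, hr⟩]
      · simp [d]
      · intro b _ hb; simp [d, hb]
      · simp
    rw [minor, minor, h1, Matrix.det_mul, h2]
    linear_combination (-((-1 : A) ^ (i : ℕ) * (φ.submatrix i.succAbove id).det)) * l.mul_inv
  · rw [Matrix.mulVecLin_mul, LinearMap.range_comp, LinearMap.range_eq_top.2, Submodule.map_top]
    intro v
    exact ⟨D' *ᵥ v, by rw [Matrix.mulVecLin_apply, Matrix.mulVec_mulVec, hdd, Matrix.one_mulVec]⟩
  · rw [Matrix.mulVecLin_mul]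
    refine hinj.comp fun v w h => ?_
    have := congrArg (D' *ᵥ ·) h
    simpa [Matrix.mulVec_mulVec, hd'd] using this

end HBLib
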