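import Groth.Agent.HBLib.Basic
import Mathlib

/-! Spreading a Hilbert–Burch resolution out from a localization. -/

set_option autoImplicit false
universe u

open Matrix

namespace HBLib

variable {B : Type u} [CommRing B] [IsNoetherianRing B] {r : ℕ}

theorem minor_mapMatrix {R S : Type u} [CommRing R] [CommRing S] (π : R →+* S) (φ : Matrix (Fin (r + 1)) (Fin r) R)
    (i : Fin (r + 1)) : minor (φ.map π) i = π (minor φ i) := by
  rw [minor, minor, map_mul, RingHom.map_det, RingHom.mapMatrix_apply, Matrix.submatrix_map, map_pow, map_neg, map_one]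

theorem exists_mulVec_eq {R S : Type u} [CommRing R] [CommRing S] (π : R →+* S) (φ : Matrix (Fin (r + 1)) (Fin r) R)
    (v : Fin r → R) (i : Fin (r + 1)) : (φ.map π *ᵥ (π ∘ v)) i = π ((φ *ᵥ v) i) := (RingHom.map_mulVec π φ v i).symm

theorem map_linearCombination {R S : Type u} [CommRing R] [CommRing S] (π : R →+* S)
    (φ : Matrix (Fin (r + 1)) (Fin r) R) (x : Fin (r + 1) → R) :
    Fintype.linearCombination S (minor (φ.map π)) (π ∘ x) = π (Fintype.linearCombination R (minor φ) x) := by
  simp [Fintype.linearCombination_apply, minor_mapMatrix]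

omit [IsNoetherianRing B] in
/-- A matrix with entries in a localization is, up to a unit, defined over the ring. -/
theorem exists_matrix_model (T : Submonoid B) (L : Type u) [CommRing L] [Algebra B L] [IsLocalization T L]
    (φ : Matrix (Fin (r + 1)) (Fin r) L) : ∃ (ψ : Matrix (Fin (r + 1)) (Fin r) B) (s : Lˣ),
      ψ.map (algebraMap B L) = (s : L) • φ := by
  classical
  obtain ⟨s, hs⟩ := IsLocalization.exist_integer_multiples T (Finset.univ : Finset (Fin (r + 1) × Fin r)) fun x => φ x.1 x.2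
  choose ψ hψ using fun x => hs x (Finset.mem_univ x)
  refine ⟨Matrix.of fun i j => ψ (i, j), (IsLocalization.map_units L s).unit, ?_⟩
  ext i j
  rw [Matrix.map_apply, Matrix.of_apply, hψ (i, j), Matrix.smul_apply, IsUnit.unit_spec, Algebra.smul_def, smul_eq_mul]

theorem minor_smul {L : Type u} [CommRing L] (s : L) (φ : Matrix (Fin (r + 1)) (Fin r) L) :
    minor (s • φ) = s ^ r • minor φ := by
  funext i
  rw [Pi.smul_apply, smul_eq_mul, minor, minor, show (s • φ).submatrix i.succAbove id = s • φ.submatrix i.succAbove id from rfl,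
    Matrix.det_smul, Fintype.card_fin]
  ring

/-- The resolution spreads to a neighbourhood. -/
theorem exists_spread (p : Ideal B) [p.IsPrime] (L : Type u) [CommRing L] [Algebra B L] [IsLocalization.AtPrime L p]
    (I : Ideal B) (ψ : Matrix (Fin (r + 1)) (Fin r) B)
    (hI : Ideal.span (Set.range (minor (ψ.map (algebraMap B L)))) = I.map (algebraMap B L))
    (hinj : Function.Injective (ψ.map (algebraMap B L)).mulVecLin)
    (hex : LinearMap.range (ψ.map (algebraMap B L)).mulVecLin =
      LinearMap.ker (Fintype.linearCombination L (minor (ψ.map (algebraMap B L))))) :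
    ∃ f, f ∉ p ∧ ∀ (S : Type u) [CommRing S] [Algebra B S] [IsLocalization.Away f S],
      Ideal.span (Set.range (minor (ψ.map (algebraMap B S)))) = I.map (algebraMap B S) ∧
      Function.Injective (ψ.map (algebraMap B S)).mulVecLin ∧
      LinearMap.range (ψ.map (algebraMap B S)).mulVecLin =
        LinearMap.ker (Fintype.linearCombination S (minor (ψ.map (algebraMap B S)))) := by
  classical
  let ι := algebraMap B L
  let g := Fintype.linearCombination B (minor ψ)
  -- one denominator killing a finitely generated obstruction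
  have key : ∀ (M : Type u) [AddCommGroup M] [Module B M] (N P : Submodule B M), N.FG →
      (∀ x ∈ N, ∃ t : B, t ∉ p ∧ t • x ∈ P) → ∃ t : B, t ∉ p ∧ ∀ x ∈ N, t • x ∈ P := by
    intro M _ _ N P hN h
    obtain ⟨s, rfl⟩ := hN
    choose t ht htx using fun x : s => h x (Submodule.subset_span x.2)
    refine ⟨∏ x : s, t x, ?_, fun x hx => ?_⟩
    · exact fun hm => by
        obtain ⟨x, -, hx⟩ := (Ideal.IsPrime.prod_mem_iff (p := p)).1 hm
        exact ht x hx
    · induction hx using Submodule.span_induction with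
      | mem y hy =>
        rw [← Finset.prod_erase_mul _ _ (Finset.mem_univ (⟨y, hy⟩ : s)), mul_smul]
        exact P.smul_mem _ (htx ⟨y, hy⟩)
      | zero => simp
      | add a b _ _ ha hb => rw [smul_add]; exact P.add_mem ha hb
      | smul c a _ ha => rw [smul_comm]; exact P.smul_mem c ha
  have hz : ∀ {n : ℕ} (x : Fin n → B), (∀ i, ι (x i) = 0) → ∃ t : B, t ∉ p ∧ t • x = 0 := by
    intro n x hx
    choose t ht using fun i => (IsLocalization.map_eq_zero_iff p.primeCompl L (x i)).1 (hx i)
    refine ⟨∏ i, (t i : B), prod_mem (S := p.primeCompl) fun i _ => (t i).2, funext fun i => ?_⟩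
    rw [Pi.smul_apply, smul_eq_mul, ← Finset.prod_erase_mul _ _ (Finset.mem_univ i), mul_assoc, ht i, mul_zero]; rfl
  obtain ⟨t1, ht1, h1⟩ := key (Fin r → B) (LinearMap.ker ψ.mulVecLin) ⊥ (IsNoetherian.noetherian _) fun x hx => by
    obtain ⟨t, ht, htx⟩ := hz x fun i => by
      have h : ι ∘ x = 0 := hinj (by
        rw [map_zero]
        funext i
        rw [Matrix.mulVecLin_apply, exists_mulVec_eq, show ψ *ᵥ x = 0 from hx]
        exact map_zero ι)
      exact congrFun h i
    exact ⟨t, ht, by rw [htx]; exact zero_mem _⟩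
  obtain ⟨t2, ht2, h2⟩ := key (Fin (r + 1) → B) (LinearMap.ker g) (LinearMap.range ψ.mulVecLin)
    (IsNoetherian.noetherian _) fun x hx => by
    have h : ι ∘ x ∈ LinearMap.range (ψ.map ι).mulVecLin := by
      rw [hex, LinearMap.mem_ker, map_linearCombination, show Fintype.linearCombination B (minor ψ) x = 0 from hx, map_zero]
    obtain ⟨v, hv⟩ := h
    obtain ⟨s, hs⟩ := IsLocalization.exist_integer_multiples p.primeCompl (Finset.univ : Finset (Fin r)) v
    choose v' hv' using fun j => hs j (Finset.mem_univ j)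
    obtain ⟨t, ht, htx⟩ := hz ((s : B) • x - ψ *ᵥ v') fun i => by
      rw [Pi.sub_apply, Pi.smul_apply, smul_eq_mul, map_sub, map_mul, ← exists_mulVec_eq]
      rw [show ι ∘ v' = ι s • v from funext fun j => (hv' j).trans (Algebra.smul_def _ _), Matrix.mulVec_smul,
        Pi.smul_apply, smul_eq_mul]
      rw [show (ψ.map ι *ᵥ v) i = ι (x i) from congrFun hv i, sub_self]
    refine ⟨t * s, fun hm => ((Ideal.IsPrime.mem_or_mem ‹_› hm).elim ht s.2), ?_⟩
    refine ⟨t • v', ?_⟩
    rw [map_smul, Matrix.mulVecLin_apply, mul_smul]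
    rw [smul_sub, sub_eq_zero] at htx
    exact htx.symm
  have hJ : ∀ {J K : Ideal B}, J.map ι ≤ K.map ι → ∃ t : B, t ∉ p ∧ ∀ x ∈ J, t • x ∈ K := fun {J K} hJK => by
    refine key B J K (IsNoetherian.noetherian J) fun x hx => ?_
    obtain ⟨⟨⟨a, ha⟩, s⟩, has⟩ := (IsLocalization.mem_map_algebraMap_iff p.primeCompl L).1 (hJK (Ideal.mem_map_of_mem ι hx))
    rw [← map_mul] at has
    obtain ⟨c, hc⟩ := (IsLocalization.eq_iff_exists p.primeCompl L).1 has
    refine ⟨c * s, fun hm => ((Ideal.IsPrime.mem_or_mem ‹_› hm).elim c.2 s.2), ?_⟩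
    rw [smul_eq_mul, mul_assoc, mul_comm (s : B) x, hc]
    exact K.mul_mem_left _ ha
  have hspan : ∀ (S : Type u) [CommRing S] (π : B →+* S), Ideal.span (Set.range (minor (ψ.map π))) =
      (Ideal.span (Set.range (minor ψ))).map π := fun S _ π => by
    rw [Ideal.map_span, show minor (ψ.map π) = π ∘ minor ψ from funext (minor_mapMatrix π ψ), Set.range_comp]
  obtain ⟨t3, ht3, h3⟩ := hJ (J := Ideal.span (Set.range (minor ψ))) (K := I) (by rw [← hspan L ι]; exact hI.le)
  obtain ⟨t4, ht4, h4⟩ := hJ (J := I) (K := Ideal.span (Set.range (minor ψ))) (by rw [← hspan L ι]; exact hI.ge)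
  refine ⟨t1 * t2 * (t3 * t4), fun hm => ?_, fun S _ _ _ => ?_⟩
  · rcases Ideal.IsPrime.mem_or_mem ‹_› hm with h | h <;> rcases Ideal.IsPrime.mem_or_mem ‹_› h with h | h
    exacts [ht1 h, ht2 h, ht3 h, ht4 h]
  let f := t1 * t2 * (t3 * t4)
  let σ := algebraMap B S
  have hfu : IsUnit (σ f) := IsLocalization.Away.algebraMap_isUnit f
  have hu1 : IsUnit (σ t1) := isUnit_of_dvd_unit (map_dvd σ ⟨t2 * (t3 * t4), by ring⟩) hfu
  have hu2 : IsUnit (σ t2) := isUnit_of_dvd_unit (map_dvd σ ⟨t1 * (t3 * t4), by ring⟩) hfu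
  have hu3 : IsUnit (σ t3) := isUnit_of_dvd_unit (map_dvd σ ⟨t1 * t2 * t4, by ring⟩) hfu
  have hu4 : IsUnit (σ t4) := isUnit_of_dvd_unit (map_dvd σ ⟨t1 * t2 * t3, by ring⟩) hfu
  have hclear : ∀ {n : ℕ} (v : Fin n → S), ∃ (c : Sˣ) (w : Fin n → B), σ ∘ w = (c : S) • v := fun {n} v => by
    obtain ⟨s, hs⟩ := IsLocalization.exist_integer_multiples (Submonoid.powers f) (Finset.univ : Finset (Fin n)) v
    choose w hw using fun j => hs j (Finset.mem_univ j)
    exact ⟨(IsLocalization.map_units S s).unit, w, funext fun j => (hw j).trans (Algebra.smul_def _ _)⟩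
  have hclear0 : ∀ {n : ℕ} (x : Fin n → B), σ ∘ x = 0 → ∃ m : ℕ, f ^ m • x = 0 := fun {n} x hx => by
    choose t ht using fun i => (IsLocalization.map_eq_zero_iff (Submonoid.powers f) S (x i)).1 (congrFun hx i)
    choose m hm using fun i => (t i).2
    refine ⟨∑ i, m i, funext fun i => ?_⟩
    rw [Pi.smul_apply, smul_eq_mul, ← Finset.sum_erase_add _ _ (Finset.mem_univ i), pow_add, mul_assoc,
      show f ^ m i * x i = 0 by rw [show f ^ m i = (t i : B) from hm i]; exact ht i, mul_zero]; rfl
  have hinjS : Function.Injective (ψ.map σ).mulVecLin := by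
    rw [injective_iff_map_eq_zero]
    intro v hv
    obtain ⟨c, w, hw⟩ := hclear v
    have h0 : σ ∘ (ψ *ᵥ w) = 0 := funext fun i => by
      rw [Function.comp_apply, ← exists_mulVec_eq, hw, Matrix.mulVec_smul, show ψ.map σ *ᵥ v = 0 from hv, smul_zero]
    obtain ⟨m, hm⟩ := hclear0 _ h0
    have h5 := (Submodule.mem_bot B).1 (h1 (f ^ m • w) (by rw [LinearMap.mem_ker, map_smul]; exact hm))
    funext j
    have h6 := congrArg σ (congrFun h5 j)
    simp only [Pi.smul_apply, smul_eq_mul, map_mul, Pi.zero_apply, map_zero, map_pow] at h6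
    rw [show σ (w j) = (c : S) * v j from congrFun hw j] at h6
    exact (c.isUnit.mul_right_eq_zero).1 ((hfu.pow m).mul_right_eq_zero.1 (hu1.mul_right_eq_zero.1 h6))
  refine ⟨?_, hinjS, ?_⟩
  · refine (hspan S σ).trans (le_antisymm ?_ ?_)
    · refine Ideal.map_le_iff_le_comap.2 fun x hx => ?_
      have := Ideal.mem_map_of_mem σ (h3 x hx)
      rw [smul_eq_mul, map_mul, Ideal.unit_mul_mem_iff_mem _ hu3] at this
      exact this
    · refine Ideal.map_le_iff_le_comap.2 fun x hx => ?_
      have := Ideal.mem_map_of_mem σ (h4 x hx)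
      rw [smul_eq_mul, map_mul, Ideal.unit_mul_mem_iff_mem _ hu4] at this
      exact this
  · refine le_antisymm ?_ fun x hx => ?_
    · rintro _ ⟨v, rfl⟩
      rw [LinearMap.mem_ker, Fintype.linearCombination_apply]
      show (ψ.map σ *ᵥ v) ⬝ᵥ minor (ψ.map σ) = 0
      rw [dotProduct_comm, dotProduct_mulVec, vecMul_minor, zero_dotProduct]
    · obtain ⟨c, w, hw⟩ := hclear x
      have h0 : σ ∘ (fun _ : Fin 1 => g w) = 0 := funext fun _ => by
        rw [Function.comp_apply, ← map_linearCombination, hw, map_smul, LinearMap.mem_ker.1 hx, smul_zero]; rfl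
      obtain ⟨m, hm⟩ := hclear0 _ h0
      obtain ⟨v, hv⟩ := h2 (f ^ m • w) (by rw [LinearMap.mem_ker, map_smul]; exact congrFun hm 0)
      refine (Submodule.smul_mem_iff_of_isUnit _ (((hu2.mul (hfu.pow m))).mul c.isUnit)).1 ⟨σ ∘ v, ?_⟩
      funext i
      rw [Matrix.mulVecLin_apply, exists_mulVec_eq, show ψ *ᵥ v = t2 • f ^ m • w from hv]
      simp only [σ, Pi.smul_apply, smul_eq_mul, map_mul, map_pow]
      rw [show algebraMap B S (w i) = (c : S) * x i from congrFun hw i]
      ring

end HBLib
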